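import Groth.Agent.PerfPic7.Basic
import Groth.Agent.ExtPow7.Glue
import Groth.Agent.TwistX.PConePull
import Groth.Agent.PicClLib.Basic

/-!
# Invertible modules on perfections come from the base up to `p`-power
-/

universe u

open CategoryTheory AlgebraicGeometry TopologicalSpace

set_option backward.isDefEq.respectTransparency false
set_option backward.isDefEq.respectTransparency.types false

namespace Groth.Agent.PerfPic7

open Groth.Agent Groth.Agent.AModX Groth.Agent.H9Misc.PerfSchLib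

variable {p : ℕ} [Fact p.Prime] {X XP : Scheme.{u}} [FrobSch.IsCharP X p] [FrobSch.IsCharP XP p]
  {π : XP ⟶ X}

/-- Sections over quasi-compact opens of the perfection come from the base after a `p`-power. -/
theorem exists_lift [QuasiSeparatedSpace X] (h : FrobSch.IsPerfection π p) {W : X.Opens}
    (hW : IsCompact (W : Set X)) (s : Γ(XP, π ⁻¹ᵁ W)) :
    ∃ (n : ℕ) (r : Γ(X, W)), (π.app W).hom r = s ^ p ^ n := by
  classical
  have hex : ∀ x : W, ∃ V : X.Opens, IsAffineOpen V ∧ x.1 ∈ V ∧ V ≤ W := fun x => by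
    obtain ⟨_, ⟨V, hV, rfl⟩, hxV, hle⟩ :=
      X.isBasis_affineOpens.exists_subset_of_mem_open (show x.1 ∈ W from x.2) W.2
    exact ⟨V, hV, hxV, hle⟩
  choose V hV hxV hVW using hex
  obtain ⟨t, ht⟩ := hW.elim_finite_subcover (fun x : W => (V x : Set X)) (fun x => (V x).2)
    fun x hx => Set.mem_iUnion.2 ⟨⟨x, hx⟩, hxV _⟩
  have h1 := fun a : t => exists_pow_eq h (hV a.1) (resR (π.preimage_mono (hVW a.1)) s)
  choose k r hr using h1
  let n₀ := Finset.univ.sup k
  let r₀ : ∀ a : t, Γ(X, V a.1) := fun a => r a ^ p ^ (n₀ - k a)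
  have hr₀ : ∀ a : t, (π.app (V a.1)).hom (r₀ a) = resR (π.preimage_mono (hVW a.1)) s ^ p ^ n₀ := fun a => by
    rw [map_pow, hr, ← pow_mul, ← pow_add,
      Nat.add_sub_cancel' (Finset.le_sup (f := k) (Finset.mem_univ a))]
  have h2 := fun q : t × t => exists_pow_eq_pow h
    ((hV q.1.1).isCompact.inter_of_isOpen (hV q.2.1).isCompact (V q.1.1).2 (V q.2.1).2 :
      IsCompact ((V q.1.1 ⊓ V q.2.1 : X.Opens) : Set X))
    (resR inf_le_left (r₀ q.1)) (resR inf_le_right (r₀ q.2)) (by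
      rw [app_resR, app_resR, hr₀, hr₀, map_pow, map_pow, resR_resR, resR_resR])
  choose m hm using h2
  let m₀ := Finset.univ.sup m
  obtain ⟨R, hR, -⟩ := existsUnique_glue (M := Coh.structureModule X) (V := W) (fun a : t => V a.1)
    (fun a => hVW a.1) (fun x hx => by
      obtain ⟨a, ha, hxa⟩ := Set.mem_iUnion₂.1 (ht hx)
      exact ⟨⟨a, ha⟩, hxa⟩)
    (fun a => (show Γ(Coh.structureModule X, V a.1) from r₀ a ^ p ^ m₀)) (fun a b => by
      show resR inf_le_left (r₀ a ^ p ^ m₀) = resR inf_le_right (r₀ b ^ p ^ m₀)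
      have hm' := congrArg (· ^ p ^ (m₀ - m (a, b))) (hm (a, b))
      have hle : m (a, b) + (m₀ - m (a, b)) = m₀ :=
        Nat.add_sub_cancel' (Finset.le_sup (f := m) (Finset.mem_univ (a, b)))
      simp only [← pow_mul, ← pow_add, hle] at hm'
      exact (map_pow _ _ _).trans (hm'.trans (map_pow _ _ _).symm))
  refine ⟨n₀ + m₀, R, ?_⟩
  refine eq_of_locally (M := Coh.structureModule XP) _ _ fun y hy => ?_
  obtain ⟨a, ha, hxa⟩ := Set.mem_iUnion₂.1 (ht hy)
  refine ⟨π ⁻¹ᵁ V a, π.preimage_mono (hVW a), hxa, ?_⟩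
  show resR (π.preimage_mono (hVW a)) ((π.app W).hom R) = resR (π.preimage_mono (hVW a)) (s ^ p ^ (n₀ + m₀))
  have e1 : resR (π.preimage_mono (hVW a)) ((π.app W).hom R) =
      (π.app (V a)).hom (r₀ ⟨a, ha⟩ ^ p ^ m₀) := by
    rw [← app_resR (hVW a)]
    exact congrArg _ (hR ⟨a, ha⟩)
  rw [e1]
  refine (map_pow _ _ _).trans ?_
  refine (congrArg (· ^ p ^ m₀) (hr₀ ⟨a, ha⟩)).trans ?_
  show (_ ^ p ^ n₀) ^ p ^ m₀ = _
  rw [← pow_mul, ← pow_add, map_pow]

theorem isFrame_sec {U : X → X.Opens} (t : ExtPow7.Glue.Mat U (fun _ => Unit)) (x : X) :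
    InvX.IsFrame (ExtPow7.Glue.sec t x ()) := fun W hW => by
  let e := LinearEquiv.ofBijective _ (ExtPow7.Glue.bijective_co t x hW)
  have : (fun r : Γ(X, W) => r • res (ExtPow7.Glue.mod t) hW (ExtPow7.Glue.sec t x ())) =
      e.symm ∘ (Equiv.funUnique Unit Γ(X, W)).symm := by
    funext r
    refine (LinearEquiv.eq_symm_apply _).2 (funext fun B => ?_)
    show ExtPow7.Glue.co t x hW (r • res (ExtPow7.Glue.mod t) hW (ExtPow7.Glue.sec t x ())) B = r
    rw [map_smul, Pi.smul_apply, ExtPow7.Glue.co_sec, if_pos rfl, smul_eq_mul, mul_one]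
  rw [this]
  exact e.symm.bijective.comp (Equiv.bijective _)

/-- Every invertible module on the perfection has a `p`-power in the image of the base. -/
theorem exists_descend [CompactSpace X] [QuasiSeparatedSpace X] (h : FrobSch.IsPerfection π p)
    {M : XP.Modules} (hM : PicF.IsInvertible M) :
    ∃ (n : ℕ) (L : X.Modules), PicF.IsInvertible L ∧
      Nonempty ((Scheme.Modules.pullback π).obj L ≅ CohB1.tensorPow M (p ^ n)) := by
  classical
  have hu := isUnivHomeo h
  have hemb := (MorLib.isHomeomorph_of_isUnivHomeo hu).isEmbedding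
  have hex : ∀ x : X, ∃ (V : X.Opens) (f : Γ(M, π ⁻¹ᵁ V)), IsAffineOpen V ∧ x ∈ V ∧ InvX.IsFrame f := by
    intro x
    obtain ⟨y, rfl⟩ := (surjective p π h).surj x
    obtain ⟨O, hy, e, he⟩ := InvX.exists_frame hM y
    obtain ⟨O', hO'⟩ : ∃ O' : X.Opens, π ⁻¹ᵁ O' = O := by
      obtain ⟨S, hS, hS'⟩ := hemb.isOpen_iff.1 O.2
      exact ⟨⟨S, hS⟩, Opens.ext hS'⟩
    subst hO'
    obtain ⟨_, ⟨V, hV, rfl⟩, hxV, hle⟩ :=
      X.isBasis_affineOpens.exists_subset_of_mem_open (show π y ∈ O' from hy) O'.2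
    exact ⟨V, _, hV, hxV, he.res (π.preimage_mono (show V ≤ O' from hle))⟩
  choose V f hV hxV hf using hex
  obtain ⟨s, hs⟩ := isCompact_univ.elim_finite_subcover (fun x => (V x : Set X)) (fun x => (V x).2)
    fun x _ => Set.mem_iUnion.2 ⟨x, hxV x⟩
  have hc : ∀ x : X, ∃ a : s, x ∈ V a.1 := fun x => by
    obtain ⟨a, ha, hxa⟩ := Set.mem_iUnion₂.1 (hs (Set.mem_univ x))
    exact ⟨⟨a, ha⟩, hxa⟩
  choose c hc using hc
  let W : s × s → X.Opens := fun q => V q.1.1 ⊓ V q.2.1
  have hWc : ∀ q, IsCompact (W q : Set X) := fun q =>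
    (hV q.1.1).isCompact.inter_of_isOpen (hV q.2.1).isCompact (V q.1.1).2 (V q.2.1).2
  have h1 := fun q : s × s => (hf q.2.1).exists_coord (π.preimage_mono (inf_le_right : W q ≤ V q.2.1))
    (res M (π.preimage_mono (inf_le_left : W q ≤ V q.1.1)) (f q.1.1))
  choose γ hγ using h1
  have h2 := fun q => exists_lift h (hWc q) (γ q)
  choose k G hG using h2
  let n₀ := Finset.univ.sup k
  let G₀ : ∀ q, Γ(X, W q) := fun q => G q ^ p ^ (n₀ - k q)
  have hG₀ : ∀ q, (π.app (W q)).hom (G₀ q) = γ q ^ p ^ n₀ := fun q => by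
    rw [map_pow, hG, ← pow_mul, ← pow_add,
      Nat.add_sub_cancel' (Finset.le_sup (f := k) (Finset.mem_univ q))]
  have hγres : ∀ (a b : s) (O : X.Opens) (ha : O ≤ V a.1) (hb : O ≤ V b.1),
      res M (π.preimage_mono ha) (f a.1) =
        resR (π.preimage_mono (le_inf ha hb : O ≤ W (a, b))) (γ (a, b)) • res M (π.preimage_mono hb) (f b.1) := by
    intro a b O ha hb
    have := congrArg (res M (π.preimage_mono (le_inf ha hb : O ≤ W (a, b)))) (hγ (a, b))
    rw [res_res, res_smul, res_res] at this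
    exact this
  have hself : ∀ a : s, γ (a, a) = 1 := fun a => by
    refine (hf a.1).coord_unique (π.preimage_mono inf_le_right) ?_
    rw [one_smul]
    exact (hγ (a, a)).symm
  let T3 : s × s × s → X.Opens := fun q => V q.1.1 ⊓ V q.2.1.1 ⊓ V q.2.2.1
  have h13 : ∀ q, T3 q ≤ W (q.1, q.2.2) := fun q => le_inf (inf_le_left.trans inf_le_left) inf_le_right
  have h12 : ∀ q, T3 q ≤ W (q.1, q.2.1) := fun q => inf_le_left
  have h23 : ∀ q, T3 q ≤ W (q.2.1, q.2.2) := fun q => le_inf (inf_le_left.trans inf_le_right) inf_le_right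
  have h3 : ∀ q : s × s × s, ∃ m, resR (h13 q) (G₀ (q.1, q.2.2)) ^ p ^ m =
      (resR (h12 q) (G₀ (q.1, q.2.1)) * resR (h23 q) (G₀ (q.2.1, q.2.2))) ^ p ^ m := by
    intro q
    refine exists_pow_eq_pow h (((hV q.1.1).isCompact.inter_of_isOpen (hV q.2.1.1).isCompact (V q.1.1).2
      (V q.2.1.1).2).inter_of_isOpen (hV q.2.2.1).isCompact ((V q.1.1).2.inter (V q.2.1.1).2) (V q.2.2.1).2) _ _ ?_
    rw [map_mul, app_resR, app_resR, app_resR, hG₀, hG₀, hG₀, map_pow, map_pow, map_pow, ← mul_pow]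
    congr 1
    have hb : T3 q ≤ V q.2.1.1 := inf_le_left.trans inf_le_right
    have ha : T3 q ≤ V q.1.1 := inf_le_left.trans inf_le_left
    have hc' : T3 q ≤ V q.2.2.1 := inf_le_right
    refine (hf q.2.2.1).coord_unique (π.preimage_mono hc') ?_
    rw [mul_smul, ← hγres q.1 q.2.2 _ ha hc', ← hγres q.2.1 q.2.2 _ hb hc', ← hγres q.1 q.2.1 _ ha hb]
  choose m hm using h3
  have h4 : ∀ a : s, ∃ m, G₀ (a, a) ^ p ^ m = (1 : Γ(X, W (a, a))) ^ p ^ m := fun a =>
    exists_pow_eq_pow h (hWc (a, a)) _ _ (by rw [map_one, hG₀, hself, one_pow])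
  choose m' hm' using h4
  let m₀ := max (Finset.univ.sup m) (Finset.univ.sup m')
  let g : ∀ q, Γ(X, W q) := fun q => G₀ q ^ p ^ m₀
  have hup : ∀ {R : Type u} [CommRing R] (a b : R) (i : ℕ), i ≤ m₀ → a ^ p ^ i = b ^ p ^ i →
      a ^ p ^ m₀ = b ^ p ^ m₀ := by
    intro R _ a b i hi e
    rw [← Nat.add_sub_cancel' hi, pow_add, pow_mul, pow_mul, e]
  have gtrans : ∀ q, resR (h13 q) (g (q.1, q.2.2)) =
      resR (h12 q) (g (q.1, q.2.1)) * resR (h23 q) (g (q.2.1, q.2.2)) := fun q => by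
    simp only [g, map_pow]
    rw [← mul_pow]
    exact hup _ _ (m q) (le_trans (Finset.le_sup (Finset.mem_univ q)) (le_max_left _ _)) (hm q)
  have gself : ∀ a : s, g (a, a) = 1 := fun a => by
    have := hup _ _ (m' a) (le_trans (Finset.le_sup (Finset.mem_univ a)) (le_max_right _ _)) (hm' a)
    rwa [one_pow] at this
  let t : ExtPow7.Glue.Mat (fun x : X => V (c x).1) (fun _ => Unit) :=
    { T := fun x y O hx hy _ _ => resR (le_inf hx hy : O ≤ W (c x, c y)) (g (c x, c y))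
      res := fun x y O O' h hx hy _ _ => resR_resR _ _ _
      trans := fun x y z O hx hy hz _ _ => by
        simp only [Finset.univ_unique, Finset.sum_singleton]
        have := congrArg (resR (le_inf (le_inf hx hy) hz : O ≤ T3 (c x, c y, c z))) (gtrans (c x, c y, c z))
        rw [map_mul] at this
        exact ((resR_resR _ _ _).symm.trans this).trans
          (congrArg₂ (· * ·) (resR_resR _ _ _) (resR_resR _ _ _))
      self := fun x O hx _ _ => by rw [gself, map_one, if_pos rfl] }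
  refine ⟨n₀ + m₀, ExtPow7.Glue.mod t, InvX.isInvertible_of_frames fun x => ⟨V (c x).1, hc x,
    ExtPow7.Glue.sec t x (), isFrame_sec t x⟩, ?_⟩
  refine TwistX.nonempty_iso_of_frames (fun x : X => π ⁻¹ᵁ V (c x).1) (fun y => ⟨π y, hc (π y)⟩)
    (fun x => InvX.pullElt π (ExtPow7.Glue.sec t x ())) (fun x => powSect (f (c x).1) (p ^ (n₀ + m₀)))
    (fun x => InvX.isFrame_pullElt π (isFrame_sec t x)) (fun x => isFrame_powSect (hf _) _) ?_
  intro a b O ha hb k hk
  have hO : O ≤ π ⁻¹ᵁ W (c b, c a) := le_inf hb ha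
  have e1 : res (ExtPow7.Glue.mod t) (inf_le_left : W (c b, c a) ≤ V (c b).1) (ExtPow7.Glue.sec t b ()) =
      g (c b, c a) • res (ExtPow7.Glue.mod t) (inf_le_right : W (c b, c a) ≤ V (c a).1) (ExtPow7.Glue.sec t a ()) := by
    refine (ExtPow7.Glue.res_sec t b a inf_le_left inf_le_right ()).trans ?_
    simp only [Finset.univ_unique, Finset.sum_singleton]
    show resR _ (g (c b, c a)) • _ = _
    rw [resR_self]
  have e2 := congrArg (fun z => res _ hO (InvX.pullElt π z)) e1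
  simp only [InvX.pullElt_smul, res_smul] at e2
  rw [← InvX.res_pullElt π (inf_le_left : W (c b, c a) ≤ V (c b).1),
    ← InvX.res_pullElt π (inf_le_right : W (c b, c a) ≤ V (c a).1), res_res, res_res] at e2
  have hk' : k = resR hO ((π.app (W (c b, c a))).hom (g (c b, c a))) :=
    (InvX.isFrame_pullElt π (isFrame_sec t a)).coord_unique ha (hk.symm.trans e2)
  have e3 := congrArg (fun z => powSect z (p ^ (n₀ + m₀))) (hγ (c b, c a))
  simp only [powSect_smul, ← res_powSect] at e3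
  have e4 := congrArg (res _ hO) e3
  rw [res_res, res_smul, res_res, map_pow] at e4
  rw [hk', e4, map_pow, hG₀, map_pow, map_pow, ← pow_mul, ← pow_add]

end Groth.Agent.PerfPic7
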