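import Groth.Agent.H9Misc.PerfSchRows
import Groth.Agent.AlgGlue.Models

/-!
# Finitely presented models of compact perfect schemes
-/

universe u

open CategoryTheory CategoryTheory.Limits AlgebraicGeometry Opposite

set_option backward.isDefEq.respectTransparency false
set_option backward.isDefEq.respectTransparency.types false
set_option linter.style.haveILetI false

namespace Groth.Agent.PerfPic7.Model

open Groth.Agent Groth.Agent.H9Misc.PerfSchLib

variable (p : ℕ) [Fact p.Prime]

/-- The projection of a cone to the bottom of the tower. -/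
noncomputable def proj {X : Scheme.{u}} [FrobSch.IsCharP X p] (c : Cone (tower p X)) : c.pt ⟶ X := c.π.app (op (ULift.up 0))

/-- The perfection as the limit of the Frobenius tower, with compatible projections. -/
theorem exists_tower_perfection (X : Scheme.{u}) [FrobSch.IsCharP X p] :
    ∃ (c : Cone (tower p X)) (_ : IsLimit c) (_ : FrobSch.IsCharP c.pt p),
      FrobSch.IsPerfection (proj p c) p ∧ IsAffineHom (proj p c) := by
  obtain ⟨c, hc, haff⟩ := Groth.Agent.S2151.result (tower p X)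
  let π : ∀ n : ℕ, c.pt ⟶ X := fun n => c.π.app (op (ULift.up n))
  have hπ : ∀ n, π (n + 1) ≫ FrobSch.frob X p = π n := fun n => by
    have := c.w (homOfLE (show (ULift.up n : ULift.{u} ℕ) ≤ ULift.up (n + 1) from Nat.le_succ n)).op
    rwa [tower_succ] at this
  haveI : FrobSch.IsCharP c.pt p := FrobSch.IsCharP.of_hom (π 0) p
  have hext : ∀ {T : Scheme.{u}} {a b : T ⟶ c.pt}, (∀ n, a ≫ π n = b ≫ π n) → a = b :=
    fun h => hc.hom_ext fun i => h i.unop.down
  refine ⟨c, hc, inferInstance, ⟨?_, fun Y _ hY => ⟨fun a b e => hext fun n => ?_, fun g => ?_⟩⟩,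
    haff (op (ULift.up 0))⟩
  · let s : c.pt ⟶ c.pt := hc.lift (mkCone p X (fun n => π (n + 1)) fun n => hπ (n + 1))
    have hs : ∀ n, s ≫ π n = π (n + 1) := fun n => hc.fac _ (op (ULift.up n))
    refine ⟨s, hext fun n => ?_, hext fun n => ?_⟩
    · rw [Category.assoc, hs, FrobSch.frob_comp, hπ, Category.id_comp]
    · rw [Category.assoc, FrobSch.frob_comp, ← Category.assoc, hs, hπ, Category.id_comp]
  · induction n with
    | zero => exact e
    | succ n ih =>
      haveI : IsIso (FrobSch.frob Y p) := hY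
      rw [← cancel_epi (FrobSch.frob Y p), FrobSch.frob_comp, FrobSch.frob_comp, Category.assoc, Category.assoc,
        hπ, ih]
  · haveI : IsIso (FrobSch.frob Y p) := hY
    let gn : ℕ → (Y ⟶ X) := fun n => Nat.rec g (fun _ h => inv (FrobSch.frob Y p) ≫ h) n
    have hg : ∀ n, gn (n + 1) ≫ FrobSch.frob X p = gn n := fun n => by
      show (inv (FrobSch.frob Y p) ≫ gn n) ≫ _ = _
      rw [Category.assoc, ← FrobSch.frob_comp, IsIso.inv_hom_id_assoc]
    exact ⟨hc.lift (mkCone p X gn hg), hc.fac _ (op (ULift.up 0))⟩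

/-- The tower maps are injective on maps out of perfect schemes. -/
theorem towerℕ_cancel {X : Scheme.{u}} [FrobSch.IsCharP X p] {T : Scheme.{u}} [FrobSch.IsCharP T p]
    (hT : FrobSch.IsPerfect T p) {i j : ℕ} (h : i ≤ j) {a b : T ⟶ X}
    (e : a ≫ (towerℕ p X).map (homOfLE h).op = b ≫ (towerℕ p X).map (homOfLE h).op) : a = b := by
  induction h generalizing a b with
  | refl =>
    rw [show (homOfLE (le_refl i)).op = 𝟙 (op i) from rfl, CategoryTheory.Functor.map_id] at e
    exact (cancel_mono (𝟙 X)).1 e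
  | @step m h ih =>
    rw [show (homOfLE (Nat.le.step h)).op = (homOfLE (Nat.le_add_right m 1)).op ≫ (homOfLE h).op from rfl,
      Functor.map_comp, towerℕ_succ] at e
    haveI : IsIso (FrobSch.frob T p) := hT
    have h' : a ≫ FrobSch.frob X p = b ≫ FrobSch.frob X p :=
      ih ((Category.assoc _ _ _).trans (e.trans (Category.assoc _ _ _).symm))
    rw [← FrobSch.frob_comp, ← FrobSch.frob_comp] at h'
    exact (cancel_epi (FrobSch.frob T p)).1 h'

/-- The prime field. -/
noncomputable abbrev base : Scheme.{u} := Spec (CommRingCat.of (ULift.{u} (ZMod p)))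

instance : IsClosedImmersion (specULiftZIsTerminal.from (base.{u} p)) := by
  let φ : CommRingCat.of (ULift.{u} ℤ) ⟶ CommRingCat.of (ULift.{u} (ZMod p)) :=
    CommRingCat.ofHom (ULift.ringEquiv.symm.toRingHom.comp
      ((Int.castRingHom (ZMod p)).comp ULift.ringEquiv.toRingHom))
  haveI : IsClosedImmersion (Spec.map φ) := IsClosedImmersion.spec_of_surjective φ fun z => by
    obtain ⟨k, hk⟩ := ZMod.intCast_surjective z.down
    exact ⟨ULift.up k, ULift.ext _ _ hk⟩
  rw [specULiftZIsTerminal.hom_ext (specULiftZIsTerminal.from (base.{u} p)) (Spec.map φ)]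
  infer_instance

theorem subsingleton_hom (T : Scheme.{u}) : Subsingleton (T ⟶ base.{u} p) :=
  ⟨fun a b => (cancel_mono (specULiftZIsTerminal.from (base.{u} p))).1 (specULiftZIsTerminal.hom_ext _ _)⟩

theorem exists_hom (X : Scheme.{u}) [FrobSch.IsCharP X p] : Nonempty (X ⟶ base.{u} p) := by
  have h : ∀ a : ℤ, a ∈ Ideal.span {(p : ℤ)} → Int.castRingHom Γ(X, ⊤) a = 0 := fun a ha => by
    obtain ⟨k, rfl⟩ := Ideal.mem_span_singleton.1 ha
    rw [map_mul, map_natCast, FrobSch.IsCharP.natCast_eq_zero, zero_mul]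
  let φ : ZMod p →+* Γ(X, ⊤) :=
    (Ideal.Quotient.lift _ _ h).comp (Int.quotientSpanNatEquivZMod p).symm.toRingHom
  exact ⟨X.toSpecΓ ≫ Spec.map (CommRingCat.ofHom (φ.comp ULift.ringEquiv.toRingHom))⟩

/-- A compact perfect scheme is a retract of the perfection of a finite type scheme over the prime field. -/
theorem exists_retract (X : Scheme.{u}) [FrobSch.IsCharP X p] [CompactSpace X] [QuasiSeparatedSpace X]
    (hX : FrobSch.IsPerfect X p)
    (hc : ∀ (J : Type u) [SmallCategory J] [IsCofiltered J] (F : J ⥤ Scheme.{u})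
      [∀ j, FrobSch.IsCharP (F.obj j) p] (c : Cone F) [FrobSch.IsCharP c.pt p], IsLimit c →
      (∀ ⦃i j : J⦄ (a : i ⟶ j), IsAffineHom (F.map a)) →
      (∀ j, FrobSch.IsPerfect (F.obj j) p ∧ CompactSpace (F.obj j) ∧ QuasiSeparatedSpace (F.obj j)) →
      FrobSch.IsPerfect c.pt p → CompactSpace c.pt → QuasiSeparatedSpace c.pt →
      (∀ g : c.pt ⟶ X, ∃ (j : J) (gj : F.obj j ⟶ X), c.π.app j ≫ gj = g)) :
    ∃ (Y : Scheme.{u}) (f : Y ⟶ base.{u} p) (_ : LocallyOfFinitePresentation f) (_ : FrobSch.IsCharP Y p)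
      (_ : CompactSpace Y) (_ : QuasiSeparatedSpace Y) (c : Cone (tower p Y)) (_ : IsLimit c)
      (_ : FrobSch.IsCharP c.pt p) (_ : FrobSch.IsPerfection (proj p c) p)
      (q : X ⟶ c.pt) (g : c.pt ⟶ X), q ≫ g = 𝟙 X := by
  classical
  obtain ⟨M⟩ := AlgGlue.nonempty_model X
  obtain ⟨str⟩ := exists_hom p X
  haveI := fun T : Scheme.{u} => subsingleton_hom p T
  let Y : M.Aᵒᵖ ⥤ Scheme.{u} :=
    { obj := fun a => pullback (specULiftZIsTerminal.from (M.D.obj a)) (specULiftZIsTerminal.from (base.{u} p))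
      map := fun {a b} h => pullback.lift (pullback.fst _ _ ≫ M.D.map h) (pullback.snd _ _)
        (specULiftZIsTerminal.hom_ext _ _)
      map_id := fun a => pullback.hom_ext (by simp) (Subsingleton.elim _ _)
      map_comp := fun h h' => pullback.hom_ext (by simp) (Subsingleton.elim _ _) }
  have hlfp : ∀ a, LocallyOfFinitePresentation (specULiftZIsTerminal.from (M.D.obj a)) := fun a =>
    (AlgGlue.FTZ.finitePresentation_hom AlgGlue.FTZ.specInt (M.ftz a) _).1
  haveI : ∀ a, FrobSch.IsCharP (Y.obj a) p := fun a => FrobSch.IsCharP.of_hom (Y := base.{u} p) (pullback.snd _ _) p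
  haveI hYc : ∀ a, CompactSpace (Y.obj a) := fun a =>
    QuasiCompact.compactSpace_of_compactSpace (pullback.fst (specULiftZIsTerminal.from (M.D.obj a))
      (specULiftZIsTerminal.from (base.{u} p)))
  haveI hYq : ∀ a, QuasiSeparatedSpace (Y.obj a) := fun a =>
    quasiSeparatedSpace_of_quasiSeparated (pullback.fst (specULiftZIsTerminal.from (M.D.obj a))
      (specULiftZIsTerminal.from (base.{u} p)))
  have hYaff : ∀ {a b} (h : a ⟶ b), IsAffineHom (Y.map h) := fun {a b} h => by
    haveI := M.affine h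
    haveI : IsAffineHom (Y.map h ≫ pullback.fst (specULiftZIsTerminal.from (M.D.obj b))
        (specULiftZIsTerminal.from (base.{u} p))) := by
      rw [show Y.map h ≫ pullback.fst (specULiftZIsTerminal.from (M.D.obj b))
        (specULiftZIsTerminal.from (base.{u} p)) = pullback.fst _ _ ≫ M.D.map h from pullback.lift_fst _ _ _]
      infer_instance
    exact IsAffineHom.of_comp (Y.map h) (pullback.fst _ _)
  -- perfections of the stages
  choose c hlim hcp hperf haffρ using fun a => exists_tower_perfection p (Y.obj a)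
  haveI := hcp
  let ρ : ∀ a, (c a).pt ⟶ Y.obj a := fun a => proj p (c a)
  haveI : ∀ a, IsAffineHom (ρ a) := haffρ
  choose m hm using fun (a b : M.Aᵒᵖ) (h : a ⟶ b) =>
    ((hperf b).2 (c a).pt (hperf a).1).2 (ρ a ≫ Y.map h)
  replace hm : ∀ {a b} (h : a ⟶ b), m a b h ≫ ρ b = ρ a ≫ Y.map h := fun h => hm _ _ h
  have hmu : ∀ {T : Scheme.{u}} [FrobSch.IsCharP T p] (_ : FrobSch.IsPerfect T p) {b} {k k' : T ⟶ (c b).pt},
      k ≫ ρ b = k' ≫ ρ b → k = k' := fun {T} _ hT {b} {k k'} e => ((hperf b).2 T hT).1 e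
  let P : M.Aᵒᵖ ⥤ Scheme.{u} :=
    { obj := fun a => (c a).pt
      map := fun {a b} h => m a b h
      map_id := fun a => hmu (hperf a).1 (by rw [hm, Y.map_id, Category.comp_id, Category.id_comp])
      map_comp := fun {a b d} h h' => hmu (hperf a).1 (by
        rw [hm, Y.map_comp, Category.assoc, hm, ← Category.assoc, ← Category.assoc, hm]) }
  haveI hPaff : ∀ {a b} (h : a ⟶ b), IsAffineHom (P.map h) := fun {a b} h =>
    (isAffineHom_iff (hperf a) (hperf b) (hm h)).1 (hYaff h)
  haveI : ∀ a, FrobSch.IsCharP (P.obj a) p := hcp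
  obtain ⟨cL, hL, hLaff⟩ := Groth.Agent.S2151.result P
  obtain ⟨a₀⟩ : Nonempty M.Aᵒᵖ := ⟨op (Classical.arbitrary M.A)⟩
  haveI : FrobSch.IsCharP cL.pt p := FrobSch.IsCharP.of_hom (cL.π.app a₀) p
  haveI : ∀ a, IsIso (FrobSch.frob (P.obj a) p) := fun a => (hperf a).1
  have hLp : FrobSch.IsPerfect cL.pt p := by
    let s : cL.pt ⟶ cL.pt := hL.lift (Cone.mk cL.pt
      { app := fun a => cL.π.app a ≫ inv (FrobSch.frob (P.obj a) p)
        naturality := fun a b h => by
          show 𝟙 _ ≫ _ = _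
          rw [Category.id_comp, Category.assoc, ← cL.w h, Category.assoc]
          congr 1
          rw [IsIso.comp_inv_eq, Category.assoc, ← FrobSch.frob_comp, IsIso.inv_hom_id_assoc] })
    have hs : ∀ a, s ≫ cL.π.app a = cL.π.app a ≫ inv (FrobSch.frob (P.obj a) p) := fun a => hL.fac _ a
    refine ⟨s, hL.hom_ext fun a => ?_, hL.hom_ext fun a => ?_⟩
    · rw [Category.assoc, hs, ← Category.assoc, FrobSch.frob_comp, Category.assoc, IsIso.hom_inv_id,
        Category.comp_id, Category.id_comp]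
    · rw [Category.assoc, FrobSch.frob_comp, ← Category.assoc, hs, Category.assoc, IsIso.inv_hom_id,
        Category.comp_id, Category.id_comp]
  have hPc : ∀ a, CompactSpace (P.obj a) := fun a => QuasiCompact.compactSpace_of_compactSpace (ρ a)
  have hPq : ∀ a, QuasiSeparatedSpace (P.obj a) := fun a => quasiSeparatedSpace_of_quasiSeparated (ρ a)
  haveI := hPc a₀
  haveI := hPq a₀
  haveI := hLaff a₀
  have hLc : CompactSpace cL.pt := QuasiCompact.compactSpace_of_compactSpace (cL.π.app a₀)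
  have hLq : QuasiSeparatedSpace cL.pt := quasiSeparatedSpace_of_quasiSeparated (cL.π.app a₀)
  -- `X` maps to the limit and back
  let π' : ∀ a, X ⟶ Y.obj a := fun a => pullback.lift (M.π a) str (specULiftZIsTerminal.hom_ext _ _)
  choose qa hqa using fun a => ((hperf a).2 X hX).2 (π' a)
  replace hqa : ∀ a, qa a ≫ ρ a = π' a := hqa
  have hπ'w : ∀ {a b} (h : a ⟶ b), π' a ≫ Y.map h = π' b := fun {a b} h =>
    pullback.hom_ext (by simp [π', Y, M.w h]) (Subsingleton.elim _ _)
  let v : X ⟶ cL.pt := hL.lift (Cone.mk X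
    { app := qa
      naturality := fun a b h => hmu hX (by
        show (𝟙 X ≫ qa b) ≫ ρ b = (qa a ≫ m a b h) ≫ ρ b
        rw [Category.id_comp, Category.assoc, hm, reassoc_of% (hqa a), hqa, hπ'w]) })
  let u : cL.pt ⟶ X := M.isLimit.lift (Cone.mk cL.pt
    { app := fun a => cL.π.app a ≫ ρ a ≫ pullback.fst _ _
      naturality := fun a b h => by
        show 𝟙 _ ≫ _ = _
        rw [Category.id_comp, ← cL.w h]
        show (cL.π.app a ≫ m a b h) ≫ _ = _
        simp only [Category.assoc]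
        rw [reassoc_of% (hm h)]
        simp [Y] })
  have hvu : v ≫ u = 𝟙 X := M.hom_ext fun a => by
    have h1 : v ≫ cL.π.app a = qa a := hL.fac _ a
    have h2 : u ≫ M.π a = cL.π.app a ≫ ρ a ≫ pullback.fst _ _ := M.isLimit.fac _ a
    rw [Category.assoc, h2, reassoc_of% h1, reassoc_of% (hqa a), Category.id_comp]
    exact pullback.lift_fst _ _ _
  obtain ⟨j, g, hg⟩ := hc M.Aᵒᵖ P cL hL (fun a b h => hPaff h) (fun a => ⟨(hperf a).1, hPc a, hPq a⟩) hLp hLc hLq u
  haveI := hlfp j
  exact ⟨Y.obj j, pullback.snd _ _, inferInstance, inferInstance, inferInstance, inferInstance,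
    c j, hlim j, hcp j, hperf j, v ≫ cL.π.app j, g, by rw [Category.assoc, hg, hvu]⟩

/-- The equalizer model of a retract. -/
theorem exists_model (X : Scheme.{u}) [FrobSch.IsCharP X p] (hX : FrobSch.IsPerfect X p)
    {Y : Scheme.{u}} (f : Y ⟶ base.{u} p) [LocallyOfFinitePresentation f] [FrobSch.IsCharP Y p]
    [CompactSpace Y] [QuasiSeparatedSpace Y] (c : Cone (tower p Y)) (hlim : IsLimit c) [FrobSch.IsCharP c.pt p]
    (hperf : FrobSch.IsPerfection (proj p c) p) (q : X ⟶ c.pt) (g : c.pt ⟶ X)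
    (hqg : q ≫ g = 𝟙 X) :
    ∃ (X0 : Scheme.{u}) (s : X0 ⟶ base.{u} p) (_ : LocallyOfFinitePresentation s)
      (_ : CompactSpace X0) (_ : QuasiSeparatedSpace X0) (π : X ⟶ X0), FrobSch.IsPerfection π p := by
  haveI := fun T : Scheme.{u} => subsingleton_hom p T
  haveI : ∀ i, CompactSpace ((tower p Y).obj i) := fun _ => ‹CompactSpace Y›
  haveI : ∀ i, QuasiSeparatedSpace ((tower p Y).obj i) := fun _ => ‹QuasiSeparatedSpace Y›
  let ρ : c.pt ⟶ Y := proj p c
  let t : tower p Y ⟶ (Functor.const _).obj (base.{u} p) :=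
    { app := fun _ => f
      naturality := fun _ _ _ => (subsingleton_hom p _).elim _ _ }
  obtain ⟨i, e₀, he₀, -⟩ := Scheme.exists_π_app_comp_eq_of_locallyOfFinitePresentation (D := tower p Y) (t := t)
    (f := f) (c := c) hlim ((g ≫ q) ≫ ρ) (NatTrans.ext (funext fun _ => (subsingleton_hom p _).elim _ _))
  let n : ℕ := i.unop.down
  let ρn : c.pt ⟶ Y := c.π.app i
  let m : Y ⟶ Y := (towerℕ p Y).map (homOfLE (Nat.zero_le n)).op
  have hρ : ρn ≫ m = ρ := c.w (homOfLE (show (ULift.up 0 : ULift.{u} ℕ) ≤ i.unop from Nat.zero_le n)).op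
  replace he₀ : ρn ≫ e₀ = (g ≫ q) ≫ ρ := he₀
  let E : Y ⟶ pullback f f := pullback.lift e₀ m (Subsingleton.elim _ _)
  let X0 : Scheme.{u} := pullback (pullback.diagonal f) E
  let ι : X0 ⟶ Y := pullback.snd _ _
  have hι : ι ≫ e₀ = ι ≫ m := by
    have h1 := congrArg (· ≫ pullback.fst f f) (pullback.condition (f := pullback.diagonal f) (g := E))
    have h2 := congrArg (· ≫ pullback.snd f f) (pullback.condition (f := pullback.diagonal f) (g := E))
    simp only [E, Category.assoc, pullback.diagonal_fst, pullback.diagonal_snd, Category.comp_id,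
      pullback.lift_fst, pullback.lift_snd] at h1 h2
    exact h1.symm.trans h2
  haveI : IsLocallyNoetherian Y := LocallyOfFiniteType.isLocallyNoetherian f
  haveI : QuasiSeparated f := inferInstance
  haveI : LocallyOfFiniteType ι := inferInstance
  haveI : QuasiCompact ι := inferInstance
  haveI : CompactSpace X0 := QuasiCompact.compactSpace_of_compactSpace ι
  haveI : IsLocallyNoetherian X0 := LocallyOfFiniteType.isLocallyNoetherian ι
  haveI : QuasiSeparatedSpace X0 := inferInstance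
  haveI : LocallyOfFinitePresentation (ι ≫ f) := inferInstance
  have hq : (q ≫ ρn) ≫ e₀ = (q ≫ ρn) ≫ m := by
    simp only [Category.assoc, he₀, hρ]
    rw [reassoc_of% hqg]
  let π : X ⟶ X0 := pullback.lift ((q ≫ ρn) ≫ e₀) (q ≫ ρn) (by
    apply pullback.hom_ext <;> simp only [E, Category.assoc, pullback.diagonal_fst, pullback.diagonal_snd,
      Category.comp_id, pullback.lift_fst, pullback.lift_snd]
    simpa only [Category.assoc] using hq)
  have hπι : π ≫ ι = q ≫ ρn := pullback.lift_snd _ _ _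
  refine ⟨X0, ι ≫ f, inferInstance, inferInstance, inferInstance, π, hX, fun T _ hT => ⟨fun a b e => ?_, fun k₀ => ?_⟩⟩
  · have h1 : (a ≫ q) ≫ ρ = (b ≫ q) ≫ ρ := by
      have e1 := congrArg (· ≫ ι ≫ m) (show a ≫ π = b ≫ π from e)
      simpa only [Category.assoc, reassoc_of% hπι, hρ] using e1
    have h2 : a ≫ q = b ≫ q := (hperf.2 T hT).1 h1
    have h3 := congrArg (· ≫ g) h2
    simpa only [Category.assoc, hqg, Category.comp_id] using h3
  · obtain ⟨k, hk⟩ := (hperf.2 T hT).2 ((k₀ ≫ ι) ≫ m)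
    replace hk : k ≫ ρ = (k₀ ≫ ι) ≫ m := hk
    have hk' : k ≫ ρn = k₀ ≫ ι :=
      towerℕ_cancel p hT (Nat.zero_le n) (by rw [Category.assoc, ← hk]; exact congrArg (k ≫ ·) hρ)
    have hke : k ≫ g ≫ q = k := (hperf.2 T hT).1 (by
      show (k ≫ g ≫ q) ≫ ρ = k ≫ ρ
      rw [Category.assoc, ← he₀, reassoc_of% hk', hι, hk, Category.assoc])
    refine ⟨k ≫ g, ?_⟩
    show (k ≫ g) ≫ π = k₀
    rw [← cancel_mono ι, Category.assoc, Category.assoc, hπι, ← hk']
    rw [show k ≫ g ≫ q ≫ ρn = (k ≫ g ≫ q) ≫ ρn by simp only [Category.assoc], hke]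

end Groth.Agent.PerfPic7.Model
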